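import Groth.Agent.DerLib.RightRes
import Mathlib

/-!
# One step in the construction of a tower of resolutions
-/

set_option autoImplicit false

universe v u

open CategoryTheory Limits CochainComplex CochainComplex.HomComplex

namespace Groth.Agent.TowerResLib

noncomputable section

variable {A : Type u} [Category.{v} A] [Abelian A]
variable {K Q R : CochainComplex A ℤ} (α : K ⟶ Q) (w : mappingCone α ⟶ R)

/-- The comparison from the cone of `inr α` to the cone of the composite with `w`. -/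
def coneMap : mappingCone (mappingCone.inr α) ⟶ mappingCone (mappingCone.inr α ≫ w) :=
  mappingCone.map (mappingCone.inr α) (mappingCone.inr α ≫ w) (𝟙 Q) w (by simp)

/-- The lift to the cocone. -/
def toCocone : K ⟶ mappingCocone (mappingCone.inr α ≫ w) :=
  (shiftFunctorCompIsoId (CochainComplex A ℤ) (1 : ℤ) (-1) (by omega)).inv.app K ≫
    ((mappingCone.rotateHomotopyEquiv α).hom ≫ coneMap α w)⟦(-1 : ℤ)⟧'

theorem quasiIso_coneMap [QuasiIso w] : QuasiIso (coneMap α w) := by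
  letI := HasDerivedCategory.standard A
  rw [← DerivedCategory.isIso_Q_map_iff_quasiIso]
  have comm : mappingCone.inr α ≫ w = 𝟙 Q ≫ (mappingCone.inr α ≫ w) := (Category.id_comp _).symm
  have h₁ : IsIso (DerivedCategory.Q.map (𝟙 Q)) := inferInstance
  have h₂ : IsIso (DerivedCategory.Q.map w) := by
    rw [DerivedCategory.isIso_Q_map_iff_quasiIso]; infer_instance
  exact Pretriangulated.isIso₃_of_isIso₁₂
    (DerivedCategory.Q.mapTriangle.map (mappingCone.triangleMap (mappingCone.inr α) (mappingCone.inr α ≫ w) (𝟙 Q) w comm))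
    (DerivedCategory.mappingCone_triangle_distinguished _) (DerivedCategory.mappingCone_triangle_distinguished _)
    h₁ h₂

theorem quasiIso_toCocone [QuasiIso w] : QuasiIso (toCocone α w) := by
  haveI := quasiIso_coneMap α w
  haveI : QuasiIso (mappingCone.rotateHomotopyEquiv α).hom := inferInstance
  haveI hc : QuasiIso ((mappingCone.rotateHomotopyEquiv α).hom ≫ coneMap α w) := inferInstance
  haveI := (CochainComplex.quasiIso_shift_iff ((mappingCone.rotateHomotopyEquiv α).hom ≫ coneMap α w) (-1)).2 hc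
  unfold toCocone
  rw [quasiIso_iff_comp_left]
  assumption

theorem rot_coneMap_snd (n : ℤ) :
    ((mappingCone.rotateHomotopyEquiv α).hom ≫ coneMap α w).f n ≫
        (mappingCone.snd (mappingCone.inr α ≫ w)).v n n (add_zero n) =
      -((K.shiftFunctorObjXIso 1 n (n + 1) rfl).hom ≫ (mappingCone.inl α).v (n + 1) n (by omega) ≫ w.f n) := by
  have hs : ∀ k : ℤ, (coneMap α w).f k ≫ (mappingCone.snd (mappingCone.inr α ≫ w)).v k k (add_zero k) =
      (mappingCone.snd (mappingCone.inr α)).v k k (add_zero k) ≫ w.f k := fun k => by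
    simp [mappingCone.ext_from_iff _ (k + 1) k rfl, coneMap, mappingCone.map]
  rw [HomologicalComplex.comp_f, Category.assoc, hs]
  dsimp only [mappingCone.rotateHomotopyEquiv]
  erw [mappingCone.lift_f_snd_v_assoc]
  simp [(mappingCone.inl α).leftShift_v 1 0 (by omega) n n (add_zero n) (n + 1) (by omega)]
  erw [Category.id_comp, Category.id_comp, Preadditive.neg_comp]
  rfl

theorem rot_coneMap_fst (n q : ℤ) (hq : n + 1 = q) :
    ((mappingCone.rotateHomotopyEquiv α).hom ≫ coneMap α w).f n ≫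
        (mappingCone.fst (mappingCone.inr α ≫ w)).1.v n q hq =
      (K.shiftFunctorObjXIso 1 n q hq.symm).hom ≫ α.f q := by
  subst hq
  have hs : (coneMap α w).f n ≫ (mappingCone.fst (mappingCone.inr α ≫ w)).1.v n (n + 1) rfl =
      (mappingCone.fst (mappingCone.inr α)).1.v n (n + 1) rfl := by
    simp [mappingCone.ext_from_iff _ (n + 1) n rfl, coneMap, mappingCone.map]
  rw [HomologicalComplex.comp_f, Category.assoc, hs]
  dsimp only [mappingCone.rotateHomotopyEquiv]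
  erw [mappingCone.lift_f_fst_v]
  simp [(Cochain.ofHom α).leftShift_v 1 1 (by omega) n (n + 1) rfl (n + 1) (by omega)]
  exact neg_neg _

theorem mono_toCocone [∀ n, Mono (w.f n)] (n : ℤ) : Mono ((toCocone α w).f n) := by
  have h : ∀ k : ℤ, Mono (((mappingCone.rotateHomotopyEquiv α).hom ≫ coneMap α w).f k) := fun k => by
    haveI : Mono ((mappingCone.inl α).v (k + 1) k (by omega)) :=
      mono_of_mono_fac (mappingCone.inl_v_fst_v α (k + 1) k (by omega))
    have hh : Mono (-((K.shiftFunctorObjXIso 1 k (k + 1) rfl).hom ≫ (mappingCone.inl α).v (k + 1) k (by omega) ≫ w.f k)) := inferInstance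
    rw [← rot_coneMap_snd α w k] at hh
    exact @mono_of_mono _ _ _ _ _ _ _ hh
  haveI := h (n + -1)
  unfold toCocone
  rw [HomologicalComplex.comp_f]
  haveI : IsIso (((shiftFunctorCompIsoId (CochainComplex A ℤ) (1 : ℤ) (-1) (by omega)).inv.app K).f n) :=
    inferInstanceAs (IsIso ((HomologicalComplex.eval A (ComplexShape.up ℤ) n).map
      ((shiftFunctorCompIsoId (CochainComplex A ℤ) (1 : ℤ) (-1) (by omega)).inv.app K)))
  haveI h2 : Mono ((((mappingCone.rotateHomotopyEquiv α).hom ≫ coneMap α w)⟦(-1 : ℤ)⟧').f n) := h (n + -1)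
  exact mono_comp' inferInstance h2

theorem toCocone_fst : toCocone α w ≫ mappingCocone.fst (mappingCone.inr α ≫ w) = α := by
  ext n
  simp only [toCocone, mappingCocone.fst, HomologicalComplex.comp_f, HomologicalComplex.neg_f_apply,
    Cocycle.homOf_f, Cocycle.leftShift_coe,
    (mappingCone.fst (mappingCone.inr α ≫ w)).1.leftShift_v (-1) 0 (by omega) n n (add_zero _) (n + -1) (by omega),
    Category.assoc]
  simp [shiftFunctorCompIsoId, shiftFunctorAdd'_inv_app_f', shiftFunctorAdd'_hom_app_f', shiftFunctorZero_inv_app_f]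
  have hr := rot_coneMap_fst α w (n + -1) n (by omega)
  rw [HomologicalComplex.comp_f, Category.assoc] at hr
  erw [neg_neg]
  erw [Category.id_comp]
  erw [Category.assoc]
  erw [hr]
  erw [HomologicalComplex.XIsoOfEq_hom_comp_XIsoOfEq_hom_assoc]
  simp

theorem isZero_cone {X Y : CochainComplex A ℤ} (φ : X ⟶ Y) (a : ℤ) [X.IsStrictlyGE a] [Y.IsStrictlyGE a] :
    (mappingCone φ).IsStrictlyGE (a - 1) := by
  rw [CochainComplex.isStrictlyGE_iff]
  intro i hi
  rw [IsZero.iff_id_eq_zero, ← mappingCone.id_X φ i (i + 1) rfl]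
  rw [(CochainComplex.isZero_of_isStrictlyGE X a (i + 1) (by omega)).eq_of_tgt ((mappingCone.fst φ).1.v i (i + 1) rfl) 0,
    (CochainComplex.isZero_of_isStrictlyGE Y a i (by omega)).eq_of_tgt ((mappingCone.snd φ).v i i (add_zero i)) 0]
  simp

theorem isZero_cocone {X Y : CochainComplex A ℤ} (φ : X ⟶ Y) (a : ℤ) [X.IsStrictlyGE a] [Y.IsStrictlyGE a] :
    (mappingCocone φ).IsStrictlyGE a := by
  rw [CochainComplex.isStrictlyGE_iff]
  intro i hi
  rw [IsZero.iff_id_eq_zero, ← mappingCocone.id_X φ i (i + -1) rfl]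
  rw [(CochainComplex.isZero_of_isStrictlyGE X a i (by omega)).eq_of_tgt ((mappingCocone.fst φ).f i) 0,
    (CochainComplex.isZero_of_isStrictlyGE Y a (i + -1) (by omega)).eq_of_tgt
      ((mappingCocone.snd φ).v i (i + -1) rfl) 0]
  simp

/-- The terms of a cocone are sums. -/
def coconeXIso {X Y : CochainComplex A ℤ} (φ : X ⟶ Y) (i : ℤ) :
    (mappingCocone φ).X i ≅ X.X i ⊞ Y.X (i + -1) where
  hom := biprod.lift ((mappingCocone.fst φ).f i) ((mappingCocone.snd φ).v i (i + -1) rfl)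
  inv := biprod.desc ((mappingCocone.inl φ).v i i (add_zero i)) ((mappingCocone.inr φ).1.v (i + -1) i (by omega))
  hom_inv_id := by rw [biprod.lift_desc]; exact mappingCocone.id_X φ i (i + -1) rfl
  inv_hom_id := by
    apply biprod.hom_ext' <;> apply biprod.hom_ext <;> simp

/-- The first projection of a cocone is split with kernel the shifted target. -/
def kerFstIso {X Y : CochainComplex A ℤ} (φ : X ⟶ Y) (i : ℤ) :
    kernel ((mappingCocone.fst φ).f i) ≅ Y.X (i + -1) where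
  hom := kernel.ι _ ≫ (mappingCocone.snd φ).v i (i + -1) rfl
  inv := kernel.lift _ ((mappingCocone.inr φ).1.v (i + -1) i (by omega)) (by simp)
  hom_inv_id := by
    rw [← cancel_mono (kernel.ι _)]
    have h := kernel.ι ((mappingCocone.fst φ).f i) ≫= mappingCocone.id_X φ i (i + -1) rfl
    rw [Preadditive.comp_add, kernel.condition_assoc, zero_comp, zero_add] at h
    simpa using h
  inv_hom_id := by simp

variable (I : ObjectProperty A) [I.IsClosedUnderIsomorphisms]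
  (hI0 : ∃ Z : A, IsZero Z ∧ I Z) (hIprod : ∀ X Y : A, I X → I Y → I (X ⊞ Y))
  (hI : ∀ X : A, ∃ (Y : A) (ι : X ⟶ Y), I Y ∧ Mono ι)

include hI0 hIprod hI in
theorem exists_step (K Q : CochainComplex A ℤ) (α : K ⟶ Q) (a : ℤ) [K.IsStrictlyGE a] [Q.IsStrictlyGE a]
    (hQ : ∀ i, I (Q.X i)) :
    ∃ (Q' : CochainComplex A ℤ) (p : Q' ⟶ Q) (π : K ⟶ Q'), QuasiIso π ∧ (∀ i, Mono (π.f i)) ∧
      (∃ b : ℤ, Q'.IsStrictlyGE b) ∧ (∀ i, I (Q'.X i)) ∧
      (∀ i, (∃ s : Q.X i ⟶ Q'.X i, s ≫ p.f i = 𝟙 _) ∧ I (kernel (p.f i))) ∧ π ≫ p = α := by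
  haveI := isZero_cone α a
  obtain ⟨R, w, hRge, hR, hw, hq⟩ :=
    DerLib.RightRes.exists_resolution_int (I := I) hI hI0 (mappingCone α) (a - 1)
  haveI : Q.IsStrictlyGE (a - 1) := Q.isStrictlyGE_of_ge (a - 1) a (by omega)
  exact ⟨_, mappingCocone.fst _, toCocone α w, quasiIso_toCocone α w, mono_toCocone α w,
    ⟨a - 1, isZero_cocone _ (a - 1)⟩,
    fun i => I.prop_of_iso (coconeXIso (mappingCone.inr α ≫ w) i).symm (hIprod _ _ (hQ i) (hR _)),
    fun i => ⟨⟨(mappingCocone.inl _).v i i (add_zero i), by simp⟩,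
      I.prop_of_iso (kerFstIso (mappingCone.inr α ≫ w) i).symm (hR _)⟩,
    toCocone_fst α w⟩

include hI0 hIprod hI in
theorem exists_tower (K : CochainComplex A ℤ) :
    ∃ (Q : ℕ → CochainComplex A ℤ) (p : ∀ n, Q (n + 1) ⟶ Q n) (π : ∀ n : ℕ, K.truncGE (-(n : ℤ)) ⟶ Q n),
      (∀ n, QuasiIso (π n) ∧ ∀ i, Mono ((π n).f i)) ∧
      (∀ n, ∃ a : ℤ, (Q n).IsStrictlyGE a) ∧ (∀ n i, I ((Q n).X i)) ∧
      (∀ n i, (∃ s : (Q n).X i ⟶ (Q (n + 1)).X i, s ≫ (p n).f i = 𝟙 _) ∧ I (kernel ((p n).f i))) ∧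
      (∀ n : ℕ, K.πTruncGE (-((n + 1 : ℕ) : ℤ)) ≫ π (n + 1) ≫ p n = K.πTruncGE (-(n : ℤ)) ≫ π n) := by
  classical
  let Good (n : ℕ) : Type (max u v) :=
    { D : Σ Q : CochainComplex A ℤ, (K.truncGE (-(n : ℤ)) ⟶ Q) //
      QuasiIso D.2 ∧ (∀ i, Mono (D.2.f i)) ∧ (∃ a : ℤ, D.1.IsStrictlyGE a) ∧ ∀ i, I (D.1.X i) }
  have base : Nonempty (Good 0) := by
    obtain ⟨L, α, hL, hLI, hm, hq⟩ :=
      DerLib.RightRes.exists_resolution_int (I := I) hI hI0 (K.truncGE (-((0 : ℕ) : ℤ))) (-((0 : ℕ) : ℤ))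
    exact ⟨⟨⟨L, α⟩, hq, hm, ⟨_, hL⟩, hLI⟩⟩
  have step : ∀ (n : ℕ) (D : Good n), ∃ (D' : Good (n + 1)) (p : D'.1.1 ⟶ D.1.1),
      (∀ i, (∃ s : D.1.1.X i ⟶ D'.1.1.X i, s ≫ p.f i = 𝟙 _) ∧ I (kernel (p.f i))) ∧
      K.πTruncGE (-((n + 1 : ℕ) : ℤ)) ≫ D'.1.2 ≫ p = K.πTruncGE (-(n : ℤ)) ≫ D.1.2 := by
    intro n D
    obtain ⟨⟨Q, π⟩, hq, hm, ⟨a, ha⟩, hQI⟩ := D
    haveI := ha
    let a' : ℤ := min a (-((n + 1 : ℕ) : ℤ))
    haveI : Q.IsStrictlyGE a' := Q.isStrictlyGE_of_ge a' a (min_le_left _ _)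
    haveI : (K.truncGE (-((n + 1 : ℕ) : ℤ))).IsStrictlyGE a' :=
      CochainComplex.isStrictlyGE_of_ge _ a' (-((n + 1 : ℕ) : ℤ)) (min_le_right _ _)
    haveI : (K.truncGE (-(n : ℤ))).IsStrictlyGE (-((n + 1 : ℕ) : ℤ)) :=
      CochainComplex.isStrictlyGE_of_ge _ _ (-(n : ℤ)) (by omega)
    let ι : K.truncGE (-((n + 1 : ℕ) : ℤ)) ⟶ K.truncGE (-(n : ℤ)) :=
      CochainComplex.truncGEMap (K.πTruncGE (-(n : ℤ))) _ ≫ inv ((K.truncGE (-(n : ℤ))).πTruncGE _)
    have hι : K.πTruncGE (-((n + 1 : ℕ) : ℤ)) ≫ ι = K.πTruncGE (-(n : ℤ)) := by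
      simp only [ι]
      rw [← Category.assoc, CochainComplex.πTruncGE_naturality, Category.assoc, IsIso.hom_inv_id, Category.comp_id]
    obtain ⟨Q', p, π', h1, h2, h3, h4, h5, h6⟩ := exists_step I hI0 hIprod hI _ Q (ι ≫ π) a' hQI
    refine ⟨⟨⟨Q', π'⟩, h1, h2, h3, h4⟩, p, h5, ?_⟩
    show K.πTruncGE _ ≫ π' ≫ p = K.πTruncGE _ ≫ π
    rw [h6, ← Category.assoc, hι]
  choose next p hp hcomp using step
  let T : ∀ n, Good n := fun n => Nat.rec base.some next n
  exact ⟨fun n => (T n).1.1, fun n => p n (T n), fun n => (T n).1.2,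
    fun n => ⟨(T n).2.1, (T n).2.2.1⟩, fun n => (T n).2.2.2.1, fun n => (T n).2.2.2.2,
    fun n => hp n (T n), fun n => hcomp n (T n)⟩

end

end Groth.Agent.TowerResLib
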